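import Cfsg.Agent.H94.SolvRkOne
import Cfsg.Agent.Asch.PaQb

set_option autoImplicit false
open Cfsg

/-!
S3668, piece L33-F: a group of order 48 with a central involution `t`, an element of order 3 with
centralizer of order 6, a second involution and no normal elementary abelian subgroup of order 8 is `GL(2,3)`.
-/

namespace Cfsg.Agent.H86.L33F

open Subgroup

theorem iter_mod {α : Type*} [Finite α] (f : α → α) {p : ℕ} [Fact p.Prime] (hf : f^[p] = id) :
    Nat.card α ≡ Nat.card {x : α // f x = x} [MOD p] := by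
  classical
  have := Fintype.ofFinite α
  let F : Function.End α := f
  have h2 : ∀ k : ℕ, F ^ k = f^[k] := by
    intro k
    induction k with
    | zero => rfl
    | succ k ih => rw [pow_succ, ih]; rfl
  have h1 := Equiv.Perm.card_fixedPoints_modEq (α := α) (f := F) (p := p) (n := 1) (by
    rw [pow_one, h2, hf]; rfl)
  rw [Nat.card_eq_fintype_card, Nat.card_eq_fintype_card]
  have h3 : Fintype.card {x : α // f x = x} = Fintype.card (Function.fixedPoints F) :=
    Fintype.card_congr (Equiv.refl _)
  rw [h3]; exact h1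

theorem q16_inv : ∀ x y : QuaternionGroup 4, x * x = 1 → x ≠ 1 → y * y = 1 → y ≠ 1 → x = y := by
  decide

section
variable {C : Type*} [Group C] [Finite C] {t w : C}

/-- a `2`-element commuting with `w` is `1` or `t` -/
theorem fix (ht1 : t ≠ 1) (ht2 : t * t = 1) (htc : ∀ g : C, g * t = t * g) (hw : orderOf w = 3)
    (hcw : Nat.card (Subgroup.centralizer ({w} : Set C)) = 6) (g : C) (hg : g ^ 16 = 1) (hgw : w * g = g * w) :
    g = 1 ∨ g = t := by
  have hto : orderOf t = 2 := orderOf_eq_prime (by rw [pow_two]; exact ht2) ht1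
  have h6 : orderOf (t * w) = 6 := by
    have h := (Commute.orderOf_mul_eq_mul_orderOf_of_coprime (x := t) (y := w) (htc w).symm
      (by rw [hto, hw]; norm_num))
    rw [h, hto, hw]
  have hz : zpowers (t * w) = centralizer ({w} : Set C) := by
    apply Subgroup.eq_of_le_of_card_ge
    · rw [zpowers_le, mem_centralizer_singleton_iff, mul_assoc, ← mul_assoc w t w, htc w, mul_assoc]
    · rw [hcw, Nat.card_zpowers, h6]
  have hgm : g ∈ zpowers (t * w) := by
    rw [hz, mem_centralizer_singleton_iff]
    exact hgw.symm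
  obtain ⟨n, rfl⟩ : ∃ n : ℕ, (t * w) ^ n = g := by
    obtain ⟨n, hn⟩ := (isOfFinOrder_of_finite (t * w)).mem_powers_iff_mem_zpowers.2 hgm
    exact ⟨n, hn⟩
  rw [← pow_mul] at hg
  have h16 : 6 ∣ n * 16 := by rw [← h6]; exact orderOf_dvd_of_pow_eq_one hg
  obtain ⟨m, rfl⟩ : 3 ∣ n := by omega
  have hw3 : w ^ 3 = 1 := by rw [← hw]; exact pow_orderOf_eq_one w
  have ht3 : t ^ 3 = t := by rw [pow_succ, pow_two, ht2, one_mul]
  have hcomm : Commute t w := (htc w).symm
  rw [pow_mul, hcomm.mul_pow, hw3, mul_one, ht3]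
  rcases Nat.even_or_odd' m with ⟨k, rfl | rfl⟩
  · left; rw [pow_mul, pow_two, ht2, one_pow]
  · right; rw [pow_succ, pow_mul, pow_two, ht2, one_pow, one_mul]

/-- conjugation by `w` on a set of `2`-elements which is `w`-invariant and contains `1`, `t` -/
theorem cnt (ht1 : t ≠ 1) (ht2 : t * t = 1) (htc : ∀ g : C, g * t = t * g) (hw : orderOf w = 3)
    (hcw : Nat.card (Subgroup.centralizer ({w} : Set C)) = 6) (I : Set C) (h1 : (1 : C) ∈ I) (h2 : t ∈ I)
    (h3 : ∀ g ∈ I, g ^ 16 = 1) (h4 : ∀ g ∈ I, w * g * w⁻¹ ∈ I) : Nat.card I ≡ 2 [MOD 3] := by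
  have : Fact (Nat.Prime 3) := ⟨Nat.prime_three⟩
  have hw3 : w ^ 3 = 1 := by rw [← hw]; exact pow_orderOf_eq_one w
  let f : I → I := fun g => ⟨w * g * w⁻¹, h4 g g.2⟩
  have hf : f^[3] = id := by
    funext g
    apply Subtype.ext
    show w * (w * (w * (g : C) * w⁻¹) * w⁻¹) * w⁻¹ = g
    have hw3' : w * w * w = 1 := by rw [← hw3, pow_succ, pow_two]
    calc w * (w * (w * (g : C) * w⁻¹) * w⁻¹) * w⁻¹ = (w * w * w) * g * (w * w * w)⁻¹ := by
          simp only [mul_assoc, mul_inv_rev]
      _ = g := by rw [hw3']; simp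
  have h5 := iter_mod f hf
  have h6 : Nat.card {x : I // f x = x} = 2 := by
    have e : {x : I // f x = x} ≃ ({1, t} : Set C) :=
      { toFun := fun x => ⟨x.1, by
          have hx : w * ((x.1 : I) : C) * w⁻¹ = x.1 := congrArg Subtype.val x.2
          have hx' : w * ((x.1 : I) : C) = x.1 * w := by
            conv_rhs => rw [← hx]
            group
          exact fix ht1 ht2 htc hw hcw _ (h3 _ x.1.2) hx'⟩
        invFun := fun y => ⟨⟨y, by rcases y.2 with h | h <;> rw [h] <;> assumption⟩, by
          apply Subtype.ext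
          show w * (y : C) * w⁻¹ = y
          rcases y.2 with h | h
          · rw [h]; group
          · have hy : (y : C) = t := h
            rw [hy, htc w]; group⟩
        left_inv := fun x => rfl
        right_inv := fun y => rfl }
    rw [Nat.card_congr e, Nat.card_coe_set_eq, Set.ncard_pair (Ne.symm ht1)]
  rwa [h6] at h5

/-- the unique involution in a normal subgroup of order 8 -/
theorem uniq (ht1 : t ≠ 1) (ht2 : t * t = 1) (htc : ∀ g : C, g * t = t * g) (hw : orderOf w = 3)
    (hcw : Nat.card (Subgroup.centralizer ({w} : Set C)) = 6) (Q : Subgroup C) [Q.Normal] (hQ : Nat.card Q = 8)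
    (htQ : t ∈ Q) (h8 : ∃ q ∈ Q, q * q ≠ 1) (q : C) (hq : q ∈ Q) (hqq : q * q = 1) : q = 1 ∨ q = t := by
  have : Fact (Nat.Prime 2) := ⟨Nat.prime_two⟩
  set I : Set C := {x | x ∈ Q ∧ x * x = 1} with hI
  have e1 : Nat.card I ≡ 2 [MOD 3] := by
    refine cnt ht1 ht2 htc hw hcw I ⟨one_mem _, one_mul _⟩ ⟨htQ, ht2⟩ ?_ ?_
    · rintro g ⟨-, hg⟩
      rw [show 16 = 2 * 8 by norm_num, pow_mul, pow_two, hg, one_pow]
    · rintro g ⟨hg1, hg2⟩
      refine ⟨Subgroup.Normal.conj_mem inferInstance g hg1 w, ?_⟩
      have : w * g * w⁻¹ * (w * g * w⁻¹) = w * (g * g) * w⁻¹ := by group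
      rw [this, hg2]; group
  have e2 : Nat.card I ≡ 0 [MOD 2] := by
    let f : I → I := fun g => ⟨t * g, Q.mul_mem htQ g.2.1, by
      have : t * (g : C) * (t * g) = (t * t) * (g * g) := by
        rw [mul_assoc, ← mul_assoc (g : C) t g, htc (g : C)]; group
      rw [this, ht2, g.2.2, one_mul]⟩
    have hf : f^[2] = id := by
      funext g
      apply Subtype.ext
      show t * (t * (g : C)) = g
      rw [← mul_assoc, ht2, one_mul]
    have h5 := iter_mod f hf
    have h6 : Nat.card {x : I // f x = x} = 0 := by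
      have : IsEmpty {x : I // f x = x} := ⟨fun x => ht1 (by
        have hx : t * ((x.1 : I) : C) = x.1 := congrArg Subtype.val x.2
        exact mul_eq_right.1 hx)⟩
      exact Nat.card_of_isEmpty
    rwa [h6] at h5
  have hle : Nat.card I < 8 := by
    rw [← hQ]
    obtain ⟨q0, hq0, hq0'⟩ := h8
    have hsub : I ⊂ (Q : Set C) := by
      refine ⟨fun x hx => hx.1, fun h => hq0' (h hq0).2⟩
    have := Set.ncard_lt_ncard hsub (Set.toFinite _)
    rwa [← Nat.card_coe_set_eq, ← Nat.card_coe_set_eq] at this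
  have hc2 : Nat.card I = 2 := by
    unfold Nat.ModEq at e1 e2
    omega
  have hIeq : ({1, t} : Set C) = I := by
    apply Set.eq_of_subset_of_ncard_le
    · rintro x (rfl | rfl)
      · exact ⟨one_mem _, one_mul _⟩
      · exact ⟨htQ, ht2⟩
    · rw [← Nat.card_coe_set_eq, hc2, Set.ncard_pair (Ne.symm ht1)]
    · exact Set.toFinite _
  have : q ∈ ({1, t} : Set C) := by rw [hIeq]; exact ⟨hq, hqq⟩
  exact this

/-- no normal subgroup of order 3 -/
theorem no_three (hC : Nat.card C = 48) (hw : orderOf w = 3)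
    (hcw : Nat.card (Subgroup.centralizer ({w} : Set C)) = 6) (N : Subgroup C) [N.Normal] (hN : Nat.card N = 3) :
    False := by
  have hwN : w ∈ N := by
    rw [← QuotientGroup.eq_one_iff]
    have h1 : orderOf (w : C ⧸ N) ∣ 3 := by
      rw [← hw]; exact orderOf_map_dvd (QuotientGroup.mk' N) w
    have h2 : Nat.card (C ⧸ N) = 16 := by
      have := Subgroup.card_eq_card_quotient_mul_card_subgroup N
      rw [hC, hN] at this
      omega
    have h3 : orderOf (w : C ⧸ N) ∣ 16 := by rw [← h2]; exact orderOf_dvd_natCard _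
    have h4 : orderOf (w : C ⧸ N) ∣ Nat.gcd 3 16 := Nat.dvd_gcd h1 h3
    rw [← orderOf_eq_one_iff]
    exact Nat.dvd_one.1 (by simpa using h4)
  classical
  let φ : C → N := fun g => ⟨g * w * g⁻¹, Subgroup.Normal.conj_mem inferInstance w hwN g⟩
  let r : N → C := fun n => if h : ∃ g, φ g = n then h.choose else 1
  have hr : ∀ g, φ (r (φ g)) = φ g := by
    intro g
    have h : ∃ g', φ g' = φ g := ⟨g, rfl⟩
    show φ (if h : ∃ g', φ g' = φ g then h.choose else 1) = φ g
    rw [dif_pos h]
    exact h.choose_spec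
  have hmem : ∀ g, (r (φ g))⁻¹ * g ∈ centralizer ({w} : Set C) := by
    intro g
    rw [mem_centralizer_singleton_iff]
    have h : r (φ g) * w * (r (φ g))⁻¹ = g * w * g⁻¹ := congrArg Subtype.val (hr g)
    set x := r (φ g)
    calc x⁻¹ * g * w = x⁻¹ * (g * w * g⁻¹) * g := by group
      _ = x⁻¹ * (x * w * x⁻¹) * g := by rw [h]
      _ = w * (x⁻¹ * g) := by group
  have hinj : Function.Injective (fun g : C => ((φ g, ⟨(r (φ g))⁻¹ * g, hmem g⟩) :
      N × centralizer ({w} : Set C))) := by
    intro a b hab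
    have h1 : φ a = φ b := congrArg Prod.fst hab
    have h2 : (r (φ a))⁻¹ * a = (r (φ b))⁻¹ * b := congrArg (fun z => ((z.2 : centralizer ({w} : Set C)) : C)) hab
    rw [h1] at h2
    exact mul_left_cancel h2
  have := Nat.card_le_card_of_injective _ hinj
  rw [hC, Nat.card_prod, hN, hcw] at this
  omega

theorem gl23_of (hC : Nat.card C = 48) {t w s : C} (ht1 : t ≠ 1) (ht2 : t * t = 1)
    (htc : ∀ g : C, g * t = t * g) (hw : orderOf w = 3)
    (hcw : Nat.card (Subgroup.centralizer ({w} : Set C)) = 6)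
    (h8 : ∀ Q : Subgroup C, Q.Normal → Nat.card Q = 8 → ∃ q ∈ Q, q * q ≠ 1)
    (hs1 : s ≠ 1) (hs2 : s * s = 1) (hst : s ≠ t) : Nonempty (C ≃* GL (Fin 2) (ZMod 3)) := by
  have : Fact (Nat.Prime 2) := ⟨Nat.prime_two⟩
  have hsol : Group.IsSolvable C := Asch.PaQb.isSolvable 2 3 4 1 Nat.prime_two Nat.prime_three (by rw [hC]; norm_num)
  have hsyl : ∀ S : Sylow 2 C, Nat.card (S : Subgroup C) = 16 := by
    intro S
    rw [S.card_eq_multiplicity, hC]
    have : Nat.factorization 48 2 = 4 := by
      rw [show 48 = 2 ^ 4 * 3 by norm_num, Nat.factorization_mul (by norm_num) (by norm_num),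
        Nat.Prime.factorization_pow Nat.prime_two, Nat.Prime.factorization Nat.prime_three]
      simp
    rw [this]; norm_num
  have htnorm : (zpowers t).Normal := ⟨by
    intro n hn g
    obtain ⟨k, rfl⟩ := mem_zpowers_iff.1 hn
    have hc : Commute g (t ^ k) := (show Commute g t from htc g).zpow_right k
    rw [hc.eq, mul_inv_cancel_right]
    exact hn⟩
  have hto : orderOf t = 2 := orderOf_eq_prime (by rw [pow_two]; exact ht2) ht1
  have htS : ∀ S : Sylow 2 C, t ∈ (S : Subgroup C) := by
    intro S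
    have h1 : IsPGroup 2 (zpowers t) := IsPGroup.of_card (n := 1) (by rw [Nat.card_zpowers, hto, pow_one])
    exact (h1.le_sylow_of_normal S) (mem_zpowers t)
  have hp16 : ∀ S : Sylow 2 C, ∀ g ∈ (S : Subgroup C), g ^ 16 = 1 := by
    intro S g hg
    have h1 : orderOf (⟨g, hg⟩ : (S : Subgroup C)) ∣ 16 := by rw [← hsyl S]; exact orderOf_dvd_natCard _
    have h2 := orderOf_dvd_iff_pow_eq_one.1 h1
    exact congrArg Subtype.val h2
  -- the odd core
  have hO : Cfsg.oddCore C = ⊥ := by
    have h1 : (Nat.card (Cfsg.oddCore C)).Coprime 2 := Solv.pPrimeCore_card_coprime 2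
    have h2 : Nat.card (Cfsg.oddCore C) ∣ 48 := by rw [← hC]; exact Subgroup.card_subgroup_dvd_card _
    have h3 : Nat.card (Cfsg.oddCore C) ∣ 3 := by
      have h4 : (Nat.card (Cfsg.oddCore C)).Coprime (2 ^ 4) := Nat.Coprime.pow_right _ h1
      exact h4.dvd_of_dvd_mul_left (by rw [show 2 ^ 4 * 3 = 48 by norm_num]; exact h2)
    rcases (Nat.dvd_prime Nat.prime_three).1 h3 with h | h
    · exact Subgroup.card_eq_one.1 h
    · exact (no_three hC hw hcw (Cfsg.oddCore C) h).elim
  -- intersections of Sylow subgroups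
  have hI : ∀ S T : Sylow 2 C, S ≠ T → Cfsg.PRankLE 2 1 ↥((S : Subgroup C) ⊓ (T : Subgroup C)) := by
    intro S T hST
    set Q : Subgroup C := (S : Subgroup C) ⊓ (T : Subgroup C) with hQdef
    have hiS : (S : Subgroup C).index = 3 := by
      have := (S : Subgroup C).card_mul_index
      rw [hsyl, hC] at this; omega
    have hiT : (T : Subgroup C).index = 3 := by
      have := (T : Subgroup C).card_mul_index
      rw [hsyl, hC] at this; omega
    have hi : Q.index ≤ 9 := by
      have := Subgroup.index_inf_le (H := (S : Subgroup C)) (K := (T : Subgroup C))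
      rw [hiS, hiT] at this
      exact this
    have hci := Q.card_mul_index
    rw [hC] at hci
    have hdv : Nat.card Q ∣ 16 := by rw [← hsyl S]; exact Subgroup.card_dvd_of_le inf_le_left
    have hQ8 : Nat.card Q = 8 := by
      have hle : Nat.card Q ≤ 16 := Nat.le_of_dvd (by norm_num) hdv
      have hne : Nat.card Q ≠ 16 := by
        intro h16
        have h1 : Q = (S : Subgroup C) := Subgroup.eq_of_le_of_card_ge inf_le_left (by rw [h16, hsyl])
        have h2 : Q = (T : Subgroup C) := Subgroup.eq_of_le_of_card_ge inf_le_right (by rw [h16, hsyl])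
        exact hST (Sylow.ext (h1.symm.trans h2))
      have h5 : 5 < Nat.card Q := by
        by_contra h
        push Not at h
        nlinarith
      interval_cases Nat.card Q <;> omega
    have hnS : (S : Subgroup C) ≤ Subgroup.normalizer (Q : Set C) := by
      rw [← Subgroup.normal_subgroupOf_iff_le_normalizer inf_le_left]
      apply Subgroup.normal_of_index_eq_two
      have h1 := (Q.subgroupOf (S : Subgroup C)).card_mul_index
      have h2 : Nat.card (Q.subgroupOf (S : Subgroup C)) = 8 :=
        (Nat.card_congr (Subgroup.subgroupOfEquivOfLe (inf_le_left : Q ≤ (S : Subgroup C))).toEquiv).trans hQ8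
      rw [h2, hsyl] at h1
      exact Nat.eq_of_mul_eq_mul_left (by norm_num : 0 < 8) (by rw [h1])
    have hnT : (T : Subgroup C) ≤ Subgroup.normalizer (Q : Set C) := by
      rw [← Subgroup.normal_subgroupOf_iff_le_normalizer inf_le_right]
      apply Subgroup.normal_of_index_eq_two
      have h1 := (Q.subgroupOf (T : Subgroup C)).card_mul_index
      have h2 : Nat.card (Q.subgroupOf (T : Subgroup C)) = 8 :=
        (Nat.card_congr (Subgroup.subgroupOfEquivOfLe (inf_le_right : Q ≤ (T : Subgroup C))).toEquiv).trans hQ8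
      rw [h2, hsyl] at h1
      exact Nat.eq_of_mul_eq_mul_left (by norm_num : 0 < 8) (by rw [h1])
    have hQn : Q.Normal := by
      rw [← Subgroup.normalizer_eq_top_iff, ← Subgroup.card_eq_iff_eq_top]
      set N := Subgroup.normalizer (Q : Set C)
      have h1 : 16 ∣ Nat.card N := by rw [← hsyl S]; exact Subgroup.card_dvd_of_le hnS
      have h2 : Nat.card N ∣ 48 := by rw [← hC]; exact Subgroup.card_subgroup_dvd_card _
      have h3 : Nat.card N ≠ 16 := by
        intro h16
        have h4 : (S : Subgroup C) = N := Subgroup.eq_of_le_of_card_ge hnS (by rw [h16, hsyl])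
        have h5 : (T : Subgroup C) = N := Subgroup.eq_of_le_of_card_ge hnT (by rw [h16, hsyl])
        exact hST (Sylow.ext (h4.trans h5.symm))
      obtain ⟨k, hk⟩ := h1
      obtain ⟨l, hl⟩ := h2
      rw [hC]
      rw [hk] at hl h3 ⊢
      have : k * l = 3 := by nlinarith
      have hkd : k ∣ 3 := ⟨l, this.symm⟩
      rcases (Nat.dvd_prime Nat.prime_three).1 hkd with h | h
      · exact absurd (by rw [h]) h3
      · rw [h]
    have huq := uniq ht1 ht2 htc hw hcw Q hQ8 ⟨htS S, htS T⟩ (h8 Q hQn hQ8)
    intro A _ hA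
    have hsub : ∀ a : A, (a : Q) = 1 ∨ ((a : Q) : C) = t := by
      intro a
      have h1 : ((a : Q) : C) * ((a : Q) : C) = 1 := by
        have := congrArg Subtype.val (hA a a.2)
        rwa [pow_two] at this
      rcases huq _ (a : Q).2 h1 with h | h
      · left; exact Subtype.ext h
      · right; exact h
    have hinj : Function.Injective (fun a : A => (⟨((a : Q) : C), by
        rcases hsub a with h | h
        · left; rw [h]; rfl
        · right; exact h⟩ : ({1, t} : Set C))) := by
      intro a b hab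
      have h1 : (((a : Q) : C)) = ((b : Q) : C) := congrArg (fun z : ({1, t} : Set C) => (z : C)) hab
      exact Subtype.ext (Subtype.ext h1)
    have := Nat.card_le_card_of_injective _ hinj
    rw [Nat.card_coe_set_eq, Set.ncard_pair (Ne.symm ht1)] at this
    rw [pow_one]; exact this
  rcases H94.SolvRkOne.main hsol hO hI with ⟨P, hP⟩ | h | ⟨-, -, -, h⟩
  · exfalso
    have h1 := cnt ht1 ht2 htc hw hcw (P : Set C) (one_mem _) (htS P) (hp16 P)
      (fun g hg => hP.conj_mem g hg w)
    have h2 : Nat.card (P : Set C) = 16 := hsyl P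
    rw [h2] at h1
    exact absurd h1 (by decide)
  · exact h
  · exfalso
    have hso : orderOf s = 2 := orderOf_eq_prime (by rw [pow_two]; exact hs2) hs1
    have hps : IsPGroup 2 (zpowers s) := IsPGroup.of_card (n := 1) (by rw [Nat.card_zpowers, hso, pow_one])
    obtain ⟨P, hP⟩ := hps.exists_le_sylow
    obtain ⟨e⟩ := h P
    have hsP : s ∈ (P : Subgroup C) := hP (mem_zpowers s)
    have h1 := q16_inv (e ⟨s, hsP⟩) (e ⟨t, htS P⟩)
      (by rw [← map_mul, map_eq_one_iff e e.injective]; exact Subtype.ext hs2)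
      (by rw [Ne, map_eq_one_iff e e.injective]; exact fun h => hs1 (congrArg Subtype.val h))
      (by rw [← map_mul, map_eq_one_iff e e.injective]; exact Subtype.ext ht2)
      (by rw [Ne, map_eq_one_iff e e.injective]; exact fun h => ht1 (congrArg Subtype.val h))
    exact hst (congrArg Subtype.val (e.injective h1))

end

end Cfsg.Agent.H86.L33F
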