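import Mathlib
import Cfsg.Agent.Solv.Core

set_option autoImplicit false

namespace Cfsg.Agent.H86.PyrP6

open Subgroup

universe u

theorem p6b {G : Type u} [Group G] [Finite G] (E : Subgroup G) {p : ℕ} (hp : p.Prime)
    (hcard : Nat.card E = p + 1) (N : Subgroup G)
    (htr : ∀ x ∈ E, ∀ y ∈ E, x ≠ 1 → y ≠ 1 → ∃ g ∈ N, g * x * g⁻¹ = y)
    (hEN : ∀ g ∈ N, ∀ x ∈ E, g * x * g⁻¹ ∈ E) (h3 : 3 ≤ p) :
    ∃ h ∈ N, (∃ j, orderOf h = p ^ j) ∧
      ∀ x ∈ E, ∀ y ∈ E, x ≠ 1 → y ≠ 1 → ∃ i : ℕ, h ^ i * x * (h ^ i)⁻¹ = y := by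
  classical
  have : Fact p.Prime := ⟨hp⟩
  -- the set of nontrivial elements
  let X := {x : G // x ∈ E ∧ x ≠ 1}
  have hX : Nat.card X = p := by
    have h1 : Nat.card {x : E // x ≠ 1} = p := by
      have := Fintype.ofFinite E
      rw [Nat.card_eq_fintype_card, Fintype.card_subtype_compl, Fintype.card_subtype_eq, ← Nat.card_eq_fintype_card, hcard]
      omega
    rw [← h1]
    exact Nat.card_congr
      { toFun := fun x => ⟨⟨x.1, x.2.1⟩, fun h => x.2.2 (congrArg Subtype.val h)⟩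
        invFun := fun x => ⟨x.1.1, x.1.2, fun h => x.2 (Subtype.ext h)⟩
        left_inv := fun x => rfl
        right_inv := fun x => rfl }
  have hmem : ∀ (g : N) (x : X), (g : G) * x.1 * (g : G)⁻¹ ∈ E ∧ (g : G) * x.1 * (g : G)⁻¹ ≠ 1 := by
    intro g x
    refine ⟨hEN g g.2 x.1 x.2.1, fun h => x.2.2 ?_⟩
    have : x.1 = (g : G)⁻¹ * ((g : G) * x.1 * (g : G)⁻¹) * g := by group
    rw [this, h]; group
  letI act : MulAction N X :=
    { smul := fun g x => ⟨(g : G) * x.1 * (g : G)⁻¹, hmem g x⟩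
      one_smul := fun x => Subtype.ext (by show ((1 : N) : G) * x.1 * ((1 : N) : G)⁻¹ = x.1; simp)
      mul_smul := fun a b x => Subtype.ext (by
        show ((a * b : N) : G) * x.1 * ((a * b : N) : G)⁻¹ = (a : G) * ((b : G) * x.1 * (b : G)⁻¹) * (a : G)⁻¹
        rw [Subgroup.coe_mul]; group) }
  have smul_def : ∀ (g : N) (x : X), ((g • x : X) : G) = (g : G) * x.1 * (g : G)⁻¹ := fun _ _ => rfl
  obtain ⟨x0⟩ : Nonempty X := by
    rw [← Finite.card_pos_iff, hX]; omega
  have horb : MulAction.orbit N x0 = Set.univ := by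
    ext y
    simp only [Set.mem_univ, iff_true]
    obtain ⟨g, hg, hgy⟩ := htr x0.1 x0.2.1 y.1 y.2.1 x0.2.2 y.2.2
    exact ⟨⟨g, hg⟩, Subtype.ext hgy⟩
  obtain ⟨P⟩ : Nonempty (Sylow p N) := inferInstance
  have hPm : ∃ h ∈ (P : Subgroup N), h • x0 ≠ x0 := by
    by_contra hcon
    push Not at hcon
    have h1 : (P : Subgroup N) ≤ MulAction.stabilizer N x0 := fun h hh => hcon h hh
    have h2 : (MulAction.stabilizer N x0).index = p := by
      rw [MulAction.index_stabilizer, horb, Set.ncard_univ, hX]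
    have h3 : (MulAction.stabilizer N x0).index ∣ (P : Subgroup N).index := Subgroup.index_dvd_of_le h1
    rw [h2] at h3
    exact P.not_dvd_index h3
  obtain ⟨h, hhP, hhx⟩ := hPm
  have hord : ∃ j, orderOf h = p ^ j := by
    obtain ⟨j, hj⟩ := P.isPGroup' ⟨h, hhP⟩
    have h1 : h ^ p ^ j = 1 := congrArg Subtype.val hj
    obtain ⟨k, -, hk⟩ := (Nat.dvd_prime_pow hp).1 (orderOf_dvd_of_pow_eq_one h1)
    exact ⟨k, hk⟩
  -- the orbit of x0 under <h>
  have horb2 : Nat.card (MulAction.orbit (zpowers h) x0) = p := by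
    have h1 : Nat.card (MulAction.orbit (zpowers h) x0) ∣ Nat.card (zpowers h) := by
      rw [Nat.card_coe_set_eq, ← MulAction.index_stabilizer]
      exact Subgroup.index_dvd_card _
    obtain ⟨j, hj⟩ := hord
    rw [Nat.card_zpowers, hj] at h1
    obtain ⟨k, hk, hk2⟩ := (Nat.dvd_prime_pow hp).1 h1
    have h2 : Nat.card (MulAction.orbit (zpowers h) x0) ≤ p := by
      rw [← hX]
      exact Nat.card_le_card_of_injective _ Subtype.val_injective
    have h3 : 1 < Nat.card (MulAction.orbit (zpowers h) x0) := by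
      rw [Finite.one_lt_card_iff_nontrivial]
      refine ⟨⟨⟨x0, MulAction.mem_orbit_self x0⟩, ⟨h • x0, ⟨⟨h, mem_zpowers h⟩, rfl⟩⟩, ?_⟩⟩
      intro h4
      exact hhx (congrArg Subtype.val h4).symm
    rw [hk2] at h2 h3 ⊢
    have hk1 : k = 1 := by
      rcases k with _ | _ | k
      · simp at h3
      · rfl
      · exfalso
        have : p ^ 2 ≤ p ^ (k + 2) := Nat.pow_le_pow_right hp.pos (by omega)
        nlinarith [hp.two_le]
    rw [hk1, pow_one]
  have huniv : MulAction.orbit (zpowers h) x0 = Set.univ := by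
    apply Set.eq_of_subset_of_ncard_le (Set.subset_univ _)
    rw [Set.ncard_univ, hX, ← Nat.card_coe_set_eq, horb2]
  refine ⟨h, h.2, ?_, ?_⟩
  · obtain ⟨j, hj⟩ := hord
    exact ⟨j, by rw [Subgroup.orderOf_coe, hj]⟩
  · intro x hx y hy hx1 hy1
    have hz : ∀ y : X, ∃ n : ℕ, h ^ n • x0 = y := by
      intro y
      have : y ∈ MulAction.orbit (zpowers h) x0 := by rw [huniv]; trivial
      obtain ⟨⟨g, hg⟩, hgy⟩ := this
      obtain ⟨n, hn⟩ := (isOfFinOrder_of_finite h).mem_powers_iff_mem_zpowers.2 hg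
      refine ⟨n, ?_⟩
      have hn' : h ^ n = g := hn
      rw [hn']; exact hgy
    obtain ⟨a, ha⟩ := hz ⟨x, hx, hx1⟩
    obtain ⟨b, hb⟩ := hz ⟨y, hy, hy1⟩
    -- y = h^(b - a) x; use the order
    have hfin : 0 < orderOf h := orderOf_pos h
    obtain ⟨m, hm⟩ : ∃ m : ℕ, h ^ m * h ^ a = h ^ b := by
      refine ⟨b + (orderOf h - 1) * a, ?_⟩
      rw [← pow_add]
      have : b + (orderOf h - 1) * a + a = b + orderOf h * a := by
        obtain ⟨q, hq⟩ : ∃ q, orderOf h = q + 1 := ⟨orderOf h - 1, by omega⟩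
        rw [hq]; simp; ring
      rw [this, pow_add, pow_mul, pow_orderOf_eq_one, one_pow, mul_one]
    refine ⟨m, ?_⟩
    have h1 : h ^ m • (⟨x, hx, hx1⟩ : X) = ⟨y, hy, hy1⟩ := by
      rw [← ha, ← mul_smul, hm, hb]
    have h2 := congrArg Subtype.val h1
    rw [smul_def] at h2
    simpa using h2

/-- a normal odd order subgroup modulo a central `2`-subgroup is trivial if `O(C) = 1` -/
theorem core {C : Type u} [Group C] [Finite C] (hO : Cfsg.pPrimeCore 2 C = ⊥) (Z : Subgroup C) [Z.Normal]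
    (hZc : ∀ c : C, ∀ e ∈ Z, c * e = e * c) (hZ2 : IsPGroup 2 Z) (N : Subgroup (C ⧸ Z)) (hN : N.Normal)
    (hodd : Odd (Nat.card N)) : N = ⊥ := by
  classical
  have : Fact (Nat.Prime 2) := ⟨Nat.prime_two⟩
  set π := QuotientGroup.mk' Z with hπ
  have hπs : Function.Surjective π := QuotientGroup.mk'_surjective Z
  set M : Subgroup C := N.comap π with hM
  have hMn : M.Normal := hN.comap π
  have hZM : Z ≤ M := by
    intro z hz
    show π z ∈ N
    have : π z = 1 := (QuotientGroup.eq_one_iff z).2 hz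
    rw [this]; exact N.one_mem
  -- the index of Z in M
  have hidx : (Z.subgroupOf M).index = Nat.card N := by
    have h1 : (π.subgroupComap N).ker = Z.subgroupOf M := by
      ext x
      rw [MonoidHom.mem_ker, Subgroup.mem_subgroupOf]
      constructor
      · intro h
        have h2 : π (x : C) = 1 := congrArg Subtype.val h
        exact (QuotientGroup.eq_one_iff _).1 h2
      · intro h
        exact Subtype.ext ((QuotientGroup.eq_one_iff _).2 h)
    rw [← h1, Subgroup.index_ker]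
    have h2 : (π.subgroupComap N).range = ⊤ :=
      MonoidHom.range_eq_top.2 (MonoidHom.subgroupComap_surjective_of_surjective π N hπs)
    rw [h2]
    exact Subgroup.card_top
  obtain ⟨a, ha⟩ := (IsPGroup.iff_card).1 hZ2
  have hcZ : Nat.card (Z.subgroupOf M) = 2 ^ a := by
    rw [Nat.card_congr (Subgroup.subgroupOfEquivOfLe hZM).toEquiv, ha]
  have hcop : Nat.Coprime (Nat.card (Z.subgroupOf M)) (Z.subgroupOf M).index := by
    rw [hcZ, hidx]
    exact Nat.Coprime.pow_left _ (Nat.coprime_two_left.2 hodd)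
  obtain ⟨K', hK'⟩ := Subgroup.exists_right_complement'_of_coprime hcop
  set K : Subgroup C := K'.map M.subtype with hK
  have hcK : Nat.card K = Nat.card N := by
    rw [hK, Subgroup.card_map_of_injective M.subtype_injective, ← hidx]
    exact hK'.symm.index_eq_card.symm
  have hKodd : Odd (Nat.card K) := by rw [hcK]; exact hodd
  -- decomposition of M
  have hdec : ∀ x ∈ M, ∃ z ∈ Z, ∃ k ∈ K, z * k = x := by
    intro x hx
    obtain ⟨⟨z, k⟩, hzk⟩ := (hK'.existsUnique ⟨x, hx⟩).exists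
    exact ⟨((z : M) : C), z.2, ((k : M) : C), ⟨k, k.2, rfl⟩, congrArg Subtype.val hzk⟩
  -- odd order elements of M lie in K
  have hmem : ∀ x ∈ M, Odd (orderOf x) → x ∈ K := by
    intro x hx hox
    obtain ⟨z, hz, k, hk, rfl⟩ := hdec x hx
    have hcomm : Commute z k := (hZc k z hz).symm
    set n := orderOf (z * k) * Nat.card K with hn
    have hnodd : Odd n := hox.mul hKodd
    have h1 : (z * k) ^ n = 1 := by rw [hn, pow_mul, pow_orderOf_eq_one, one_pow]
    have h2 : k ^ n = 1 := by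
      have h3 : k ^ Nat.card K = 1 := by
        have := pow_card_eq_one' (x := (⟨k, hk⟩ : K))
        exact congrArg Subtype.val this
      rw [hn, mul_comm, pow_mul, h3, one_pow]
    rw [hcomm.mul_pow, h2, mul_one] at h1
    have h4 : z ^ 2 ^ a = 1 := by
      have := pow_card_eq_one' (x := (⟨z, hz⟩ : Z))
      rw [ha] at this
      exact congrArg Subtype.val this
    have h5 : orderOf z ∣ Nat.gcd n (2 ^ a) := Nat.dvd_gcd (orderOf_dvd_of_pow_eq_one h1) (orderOf_dvd_of_pow_eq_one h4)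
    have h6 : Nat.Coprime n (2 ^ a) := Nat.Coprime.pow_right _ (Nat.coprime_two_right.2 hnodd)
    rw [h6] at h5
    have h7 : z = 1 := orderOf_eq_one_iff.1 (Nat.dvd_one.1 h5)
    rw [h7, one_mul]; exact hk
  have hKM : K ≤ M := Subgroup.map_subtype_le K'
  have hKn : K.Normal := ⟨by
    intro k hk c
    refine hmem _ (hMn.conj_mem k (hKM hk) c) ?_
    have h1 : orderOf (c * k * c⁻¹) = orderOf k := by
      have := orderOf_injective (MulAut.conj c).toMonoidHom (MulAut.conj c).injective k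
      exact this
    rw [h1]
    exact hKodd.of_dvd_nat (by
      have := orderOf_dvd_natCard (⟨k, hk⟩ : K)
      rwa [← Subgroup.orderOf_coe] at this)⟩
  have hKbot : K = ⊥ := by
    rw [← le_bot_iff, ← hO]
    exact Cfsg.Agent.Solv.le_pPrimeCore hKn (Nat.coprime_two_right.2 hKodd)
  rw [← Subgroup.card_eq_one, ← hcK, hKbot]
  simp

theorem p6 {G : Type u} [Group G] [Finite G] (hO : ∀ N : Subgroup G, N.Normal → Odd (Nat.card N) → N = ⊥)
    (C E : Subgroup G) [C.Normal] (hEC : E ≤ C) (hcen : ∀ c ∈ C, ∀ e ∈ E, c * e = e * c)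
    (hE2 : IsPGroup 2 E) [(E.subgroupOf C).Normal] (N : Subgroup (C ⧸ E.subgroupOf C))
    (hN : N.Normal) (hodd : Odd (Nat.card N)) : N = ⊥ := by
  classical
  have : Fact (Nat.Prime 2) := ⟨Nat.prime_two⟩
  have hOC : Cfsg.pPrimeCore 2 C = ⊥ := by
    have h1 : ((Cfsg.pPrimeCore 2 C).map C.subtype) = ⊥ := by
      refine hO _ inferInstance ?_
      rw [Subgroup.card_map_of_injective C.subtype_injective]
      exact Nat.coprime_two_right.1 (Cfsg.Agent.Solv.pPrimeCore_card_coprime 2)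
    exact (Subgroup.map_eq_bot_iff_of_injective _ C.subtype_injective).1 h1
  refine core hOC (E.subgroupOf C) ?_ ?_ N hN hodd
  · intro c e he
    exact Subtype.ext (hcen c c.2 e he)
  · exact hE2.of_equiv (Subgroup.subgroupOfEquivOfLe hEC).symm

end Cfsg.Agent.H86.PyrP6
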